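import Cfsg.Agent.Lib.ThreeTransp.FischerRankThree
import Cfsg.Agent.Lib.MultSU.Ext

/-!
A 2-radical of a 3-transposition group with simple quotient without 2-multiplier, having five commuting
transpositions with product one, is elementary abelian.
-/

set_option autoImplicit false
set_option linter.unusedSectionVars false
set_option linter.style.haveILetI false

namespace CfsgLib.CharsMore.TwoRadical

open Cfsg CfsgLib.Involutions CfsgLib.ThreeTransp
open scoped commutatorElement

universe u

variable {G : Type u} [Group G] [Finite G] {Q : Type} [Group Q] [Finite Q]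

/-- The products of `d` with the members congruent to it. -/
def twinSet (D : Set G) (π : G →* Q) (d : G) : Set G := {x | ∃ t ∈ D, π t = π d ∧ x = t * d}

/-- The subgroup generated by all twin products. -/
def twinSub (D : Set G) (π : G →* Q) : Subgroup G := Subgroup.closure (⋃ d ∈ D, twinSet D π d)

variable {D : Set G} {π : G →* Q}

theorem twinSub_le (hD : IsThreeTranspositionSet D) : twinSub D π ≤ π.ker := by
  rw [twinSub, Subgroup.closure_le]
  intro x hx
  simp only [Set.mem_iUnion] at hx
  obtain ⟨d, hd, t, -, he, rfl⟩ := hx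
  rw [SetLike.mem_coe, MonoidHom.mem_ker, map_mul, he, ← map_mul, ts_mul_self hD hd, map_one]

variable (hC : TClass D)
include hC

theorem twinSub_normal : (twinSub D π).Normal := by
  have hset : Group.conjugatesOfSet (⋃ d ∈ D, twinSet D π d) = ⋃ d ∈ D, twinSet D π d := by
    refine Set.Subset.antisymm ?_ Group.subset_conjugatesOfSet
    intro y hy
    obtain ⟨a, ha, hay⟩ := Group.mem_conjugatesOfSet_iff.1 hy
    obtain ⟨g, rfl⟩ := isConj_iff.1 hay
    simp only [Set.mem_iUnion] at ha ⊢
    obtain ⟨d, hd, t, ht, he, rfl⟩ := ha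
    exact ⟨g * d * g⁻¹, hC.conj g d hd, g * t * g⁻¹, hC.conj g t ht,
      by simp only [map_mul, he], by group⟩
  rw [twinSub, ← hset]; exact Subgroup.normalClosure_normal

variable (hker : IsPGroup 2 π.ker)
include hker

theorem lift_commute {x y : G} (hx : x ∈ D) (hy : y ∈ D) (h : Commute (π x) (π y)) : Commute x y := by
  have hm : (x * y) ^ 2 ∈ π.ker := by
    rw [MonoidHom.mem_ker, map_pow, map_mul, h.mul_pow, ← map_pow, ← map_pow, pow_two, pow_two,
      ts_mul_self hC.ts hx, ts_mul_self hC.ts hy, map_one, one_mul]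
  obtain ⟨k, hk⟩ := hker ⟨_, hm⟩
  refine ts_commute_of_twoPow hC.ts hx hy (n := k + 1) ?_
  have hk' : ((x * y) ^ 2) ^ 2 ^ k = 1 := by simpa using congrArg Subtype.val hk
  rwa [← pow_mul, ← pow_succ'] at hk'

theorem twinSet_commute {d a x : G} (hd : d ∈ D) (ha : a ∈ D) (h : Commute (π d) (π a))
    (hx : x ∈ twinSet D π d) : Commute a x := by
  obtain ⟨t, ht, he, rfl⟩ := hx
  exact (lift_commute hC hker ha ht (by rw [he]; exact h.symm)).mul_right
    (lift_commute hC hker ha hd h.symm)

theorem twinSet_sq {d x : G} (hd : d ∈ D) (hx : x ∈ twinSet D π d) : x * x = 1 := by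
  obtain ⟨t, ht, he, rfl⟩ := hx
  have hc : Commute t d := lift_commute hC hker ht hd (by rw [he])
  rw [← pow_two, hc.mul_pow, pow_two, pow_two, ts_mul_self hC.ts ht, ts_mul_self hC.ts hd, one_mul]

theorem twinSet_comm {d a x y : G} (hd : d ∈ D) (ha : a ∈ D) (h : Commute (π d) (π a))
    (hx : x ∈ twinSet D π d) (hy : y ∈ twinSet D π a) : Commute x y := by
  obtain ⟨t, ht, he, rfl⟩ := hy
  exact ((twinSet_commute hC hker hd ht (by rw [he]; exact h) hx).mul_left
    (twinSet_commute hC hker hd ha h hx)).symm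

variable (hsurj : Function.Surjective π) (hsimple : IsSimpleGroup Q) (hna : ∃ x y : Q, x * y ≠ y * x)
include hsurj hsimple hna

theorem image_ne_one {d : G} (hd : d ∈ D) : π d ≠ 1 := by
  intro h1
  have hsub : D ⊆ (π.ker : Set G) := fun y hy => by
    obtain ⟨g, rfl⟩ := hC.trans d hd y hy
    simp [MonoidHom.mem_ker, h1]
  have hle : (⊤ : Subgroup G) ≤ π.ker := hC.gen ▸ (Subgroup.closure_le _).2 hsub
  obtain ⟨x, y, hxy⟩ := hna
  obtain ⟨x, rfl⟩ := hsurj x
  obtain ⟨y, rfl⟩ := hsurj y
  exact hxy (by rw [MonoidHom.mem_ker.1 (hle (Subgroup.mem_top x)),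
    MonoidHom.mem_ker.1 (hle (Subgroup.mem_top y))])

theorem image_tclass : TClass (π '' D) := by
  have hgen : Subgroup.closure (π '' D) = ⊤ := by
    rw [← MonoidHom.map_closure, hC.gen, Subgroup.map_top_of_surjective π hsurj]
  refine ⟨⟨?_, ?_⟩, ?_, hgen, ?_, ?_⟩
  · rintro _ ⟨d, hd, rfl⟩
    rw [invol_iff, ← map_mul, ts_mul_self hC.ts hd, map_one]
    exact ⟨rfl, image_ne_one hC hker hsurj hsimple hna hd⟩
  · rintro _ ⟨a, ha, rfl⟩ _ ⟨b, hb, rfl⟩
    rw [← map_mul, ← map_pow, ← map_pow]
    exact (hC.ts.2 a ha b hb).imp (fun e => by rw [e, map_one]) fun e => by rw [e, map_one]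
  · rintro g _ ⟨d, hd, rfl⟩
    obtain ⟨g, rfl⟩ := hsurj g
    exact ⟨g * d * g⁻¹, hC.conj g d hd, by simp⟩
  · rintro _ ⟨a, ha, rfl⟩ _ ⟨b, hb, rfl⟩
    obtain ⟨g, rfl⟩ := hC.trans a ha b hb
    exact ⟨π g, by simp⟩
  · obtain ⟨d, hd, -⟩ := hC.two
    by_contra hall
    push Not at hall
    have hsub : π '' D ⊆ {π d} := fun y hy => hall y hy (π d) ⟨d, hd, rfl⟩
    have hle : (⊤ : Subgroup Q) ≤ Subgroup.zpowers (π d) := by
      rw [← hgen, Subgroup.closure_le]
      exact fun y hy => (hsub hy : y = π d) ▸ Subgroup.mem_zpowers _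
    obtain ⟨x, y, hxy⟩ := hna
    obtain ⟨i, rfl⟩ := Subgroup.mem_zpowers_iff.1 (hle (Subgroup.mem_top x))
    obtain ⟨j, rfl⟩ := Subgroup.mem_zpowers_iff.1 (hle (Subgroup.mem_top y))
    exact hxy (Commute.zpow_zpow_self _ _ _).eq

/-- The members commuting with `d` and one further member generate the group. -/
theorem generated {d b : G} (hd : d ∈ D) (hb : b ∈ D) (hdb : ¬ Commute (π d) (π b)) :
    Subgroup.closure ({y | y ∈ D ∧ Commute (π d) (π y)} ∪ {b}) = ⊤ := by
  set H := Subgroup.closure ({y | y ∈ D ∧ Commute (π d) (π y)} ∪ {b}) with hH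
  have hQ := image_tclass hC hker hsurj hsimple hna
  haveI := hsimple
  obtain ⟨x₀, y₀, hxy⟩ := hna
  have hcom : commutator Q = ⊤ := by
    refine ((inferInstance : (commutator Q).Normal).eq_bot_or_eq_top).resolve_left fun e => hxy ?_
    have hmem : ⁅x₀, y₀⁆ ∈ commutator Q :=
      Subgroup.commutator_mem_commutator (Subgroup.mem_top _) (Subgroup.mem_top _)
    rw [e, Subgroup.mem_bot] at hmem
    exact commutatorElement_eq_one_iff_mul_comm.1 hmem
  let e : ↥(commutator Q) ≃* Q := (MulEquiv.subgroupCongr hcom).trans Subgroup.topEquiv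
  haveI : Nontrivial ↥(commutator Q) := e.toEquiv.nontrivial
  have hs : IsSimpleGroup ↥(commutator Q) :=
    IsSimpleGroup.isSimpleGroup_of_surjective e.symm.toMonoidHom e.symm.surjective
  obtain ⟨hp, hw⟩ := hQ.primitive_of_simple_commutator hs
    ⟨e.symm x₀, e.symm y₀, fun he => hxy (by
      have := congrArg e he; simpa using this)⟩
  obtain ⟨hne, hmax⟩ := hQ.maximal_commuting hp hw (Set.mem_image_of_mem π hd)
  set S := {y : Q | y ∈ π '' D ∧ Commute (π d) y} with hS
  have himg : Subgroup.closure (S ∪ {π b}) = ⊤ := by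
    have hDs : IsDSubgroup (π '' D) (Subgroup.closure (S ∪ {π b})) := by
      refine le_antisymm ((Subgroup.closure_le _).2 fun y hy => hy.2) ?_
      rw [Subgroup.closure_le]
      intro y hy
      refine Subgroup.subset_closure ⟨?_, Subgroup.subset_closure hy⟩
      rcases hy with hy | rfl
      · exact hy.1
      · exact Set.mem_image_of_mem π hb
    rcases hmax (Subgroup.closure (S ∪ {π b})) hDs
      (Subgroup.closure_mono Set.subset_union_left) with h | h
    · exfalso
      apply hdb
      have hbm : π b ∈ Subgroup.closure S := h ▸ Subgroup.subset_closure (Or.inr rfl)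
      have hle : Subgroup.closure S ≤ Subgroup.centralizer ({π d} : Set Q) := by
        rw [Subgroup.closure_le]
        exact fun y hy => Subgroup.mem_centralizer_singleton_iff.2 hy.2.eq.symm
      exact ((Subgroup.mem_centralizer_singleton_iff.1 (hle hbm)).symm :)
    · exact h
  have hmap : ∀ q : Q, ∃ k ∈ H, π k = q := by
    intro q
    have hle : (⊤ : Subgroup Q) ≤ H.map π := by
      rw [← himg, Subgroup.closure_le]
      rintro y (⟨⟨z, hz, rfl⟩, hc⟩ | rfl)
      · exact ⟨z, Subgroup.subset_closure (Or.inl ⟨hz, hc⟩), rfl⟩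
      · exact ⟨b, Subgroup.subset_closure (Or.inr rfl), rfl⟩
    exact hle (Subgroup.mem_top q)
  refine top_le_iff.1 (hC.gen ▸ (Subgroup.closure_le H).2 fun y hy => ?_)
  obtain ⟨g, rfl⟩ := hC.trans d hd y hy
  obtain ⟨k, hk, hkg⟩ := hmap (π g)
  have hy' : k⁻¹ * (g * d * g⁻¹) * k ∈ H := by
    refine Subgroup.subset_closure (Or.inl ⟨?_, ?_⟩)
    · have := hC.conj k⁻¹ _ hy
      rwa [inv_inv] at this
    · simp only [map_mul, map_inv, hkg]
      rw [show (π g)⁻¹ * (π g * π d * (π g)⁻¹) * π g = π d by group]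
  have := H.mul_mem (H.mul_mem hk hy') (H.inv_mem hk)
  simpa [mul_assoc] using this

variable (hZ : Subgroup.center G = ⊥)
include hZ

/-- The twin products commute. -/
theorem twin_abelian {d b w w' : G} (hd : d ∈ D) (hb : b ∈ D) (hw : w ∈ twinSet D π d)
    (hw' : w' ∈ twinSet D π b) : Commute w w' := by
  by_cases hdb : Commute (π d) (π b)
  · exact twinSet_comm hC hker hd hb hdb hw hw'
  have hw2 := twinSet_sq hC hker hd hw
  have hw'2 := twinSet_sq hC hker hb hw'
  have hwV : ∀ {c x : G}, c ∈ D → x ∈ twinSet D π c → π x = 1 := by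
    rintro c _ hc ⟨t, ht, he, rfl⟩
    rw [map_mul, he, ← map_mul, ts_mul_self hC.ts hc, map_one]
  -- the commutator
  set z := w * w' * w * w' with hz
  have hconjR : ∀ {a x : G}, a ∈ D → π x = 1 → x * x = 1 →
      ∃ r ∈ twinSet D π a, a * x * a = x * r := by
    intro a x ha hx hx2
    refine ⟨x * a * x * a, ⟨x * a * x, ?_, by simp [hx], by simp [mul_assoc]⟩, ?_⟩
    · have := hC.conj x a ha
      rwa [inv_eq_of_mul_eq_one_right hx2] at this
    · rw [show x * (x * a * x * a) = x * x * (a * x * a) by simp [mul_assoc], hx2, one_mul]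
  have hcentral : ∀ a ∈ {y | y ∈ D ∧ Commute (π d) (π y)} ∪ {b}, Commute a z := by
    have key : ∀ {a : G}, a ∈ D → a * z * a = z → Commute a z := by
      intro a ha h
      show a * z = z * a
      conv_rhs => rw [← h]
      rw [mul_assoc _ a a, ts_mul_self hC.ts ha, mul_one]
    have expand : ∀ {a : G}, a ∈ D →
        a * z * a = (a * w * a) * (a * w' * a) * (a * w * a) * (a * w' * a) := by
      intro a ha
      have h2 : ∀ x, a * (a * x) = x := fun x => by rw [← mul_assoc, ts_mul_self hC.ts ha, one_mul]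
      simp only [hz, mul_assoc, h2]
    rintro a (⟨ha, hac⟩ | rfl)
    · refine key ha ?_
      have haw : a * w * a = w := by
        rw [(twinSet_commute hC hker hd ha hac hw).eq, mul_assoc, ts_mul_self hC.ts ha, mul_one]
      obtain ⟨r, hr, hre⟩ := hconjR ha (hwV hb hw') hw'2
      have hrw : Commute r w := (twinSet_comm hC hker hd ha hac hw hr).symm
      have hr2 := twinSet_sq hC hker ha hr
      have h1 : (w' * r) * (w' * r) = 1 := by
        rw [← hre]
        simp only [mul_assoc]
        rw [← mul_assoc a a, ts_mul_self hC.ts ha, one_mul, ← mul_assoc w' w', hw'2, one_mul,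
          ts_mul_self hC.ts ha]
      have h3 : r * w' * r = w' := by
        have := congrArg (fun t => w' * t) h1
        simpa [← mul_assoc, hw'2] using this
      rw [expand ha, haw, hre, hz]
      calc w * (w' * r) * w * (w' * r) = w * w' * (r * w) * (w' * r) := by simp only [mul_assoc]
        _ = w * w' * w * (r * w' * r) := by rw [hrw.eq]; simp only [mul_assoc]
        _ = _ := by rw [h3]
    · refine key hb ?_
      have hbw : a * w' * a = w' := by
        rw [(twinSet_commute hC hker hb hb (Commute.refl _) hw').eq, mul_assoc,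
          ts_mul_self hC.ts hb, mul_one]
      obtain ⟨r, hr, hre⟩ := hconjR hb (hwV hd hw) hw2
      have hrw : Commute r w' := (twinSet_comm hC hker hb hb (Commute.refl _) hw' hr).symm
      have h1 : (w * r) * (w * r) = 1 := by
        rw [← hre]
        simp only [mul_assoc]
        rw [← mul_assoc a a, ts_mul_self hC.ts hb, one_mul, ← mul_assoc w w, hw2, one_mul,
          ts_mul_self hC.ts hb]
      have h3 : r * w * r = w := by
        have := congrArg (fun t => w * t) h1
        simpa [← mul_assoc, hw2] using this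
      rw [expand hb, hbw, hre, hz]
      calc w * r * w' * (w * r) * w' = w * (r * w') * w * (r * w') := by simp only [mul_assoc]
        _ = w * w' * (r * w * r) * w' := by nth_rewrite 1 [hrw.eq]; simp only [mul_assoc]
        _ = _ := by rw [h3]
  have hz1 : z = 1 := by
    have hle : (⊤ : Subgroup G) ≤ Subgroup.centralizer ({z} : Set G) := by
      rw [← generated hC hker hsurj hsimple hna hd hb hdb, Subgroup.closure_le]
      exact fun a ha => Subgroup.mem_centralizer_singleton_iff.2 (hcentral a ha).eq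
    rw [← Subgroup.mem_bot, ← hZ, Subgroup.mem_center_iff]
    exact fun g => Subgroup.mem_centralizer_singleton_iff.1 (hle (Subgroup.mem_top g))
  show w * w' = w' * w
  have h2 := congrArg (fun t => t * (w' * w)) hz1
  simp only [hz, one_mul] at h2
  rw [← h2]
  simp only [mul_assoc]
  rw [← mul_assoc w' w', hw'2, one_mul, hw2, mul_one]

variable (hmult : CfsgLib.MultSU.NoMult 2 Q)
include hmult

/-- The kernel is elementary abelian. -/
theorem kernel_elementary
    (hfive : ∃ d ∈ D, ∃ t : Fin 5 → G, (∀ i, t i ∈ D ∧ Commute (π d) (π (t i))) ∧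
      (∀ i j, Commute (π (t i)) (π (t j))) ∧ π (t 0 * t 1 * t 2 * t 3 * t 4) = 1) :
    IsElementaryAbelian 2 π.ker := by
  set W := twinSub D π with hW
  haveI hWn : W.Normal := twinSub_normal hC
  have hWV : W ≤ π.ker := twinSub_le hC.ts
  have hWcomm : ∀ x ∈ W, ∀ y ∈ W, x * y = y * x := by
    have hgen : ∀ x ∈ (⋃ d ∈ D, twinSet D π d), ∀ y ∈ (⋃ d ∈ D, twinSet D π d), x * y = y * x := by
      intro x hx y hy
      simp only [Set.mem_iUnion] at hx hy
      obtain ⟨a, ha, hxa⟩ := hx
      obtain ⟨b, hb, hyb⟩ := hy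
      exact (twin_abelian hC hker hsurj hsimple hna hZ ha hb hxa hyb).eq
    haveI : IsMulCommutative W := Subgroup.isMulCommutative_closure hgen
    exact fun x hx y hy => congrArg Subtype.val (IsMulCommutative.is_comm.comm (⟨x, hx⟩ : W) ⟨y, hy⟩)
  have hW2 : ∀ x ∈ W, x * x = 1 := by
    intro x hx
    induction hx using Subgroup.closure_induction with
    | mem x hx =>
        simp only [Set.mem_iUnion] at hx
        obtain ⟨d, hd, hxd⟩ := hx
        exact twinSet_sq hC hker hd hxd
    | one => exact one_mul 1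
    | mul a b ha hb iha ihb =>
        rw [← pow_two, (show Commute a b from hWcomm a ha b hb).mul_pow, pow_two, pow_two, iha, ihb,
          one_mul]
    | inv a _ iha => rw [← mul_inv_rev, iha, inv_one]
  -- the kernel is central modulo `W`
  have hcen : ∀ v ∈ π.ker, ∀ g : G, v * g * v⁻¹ * g⁻¹ ∈ W := by
    intro v hv g
    have hmod : Subgroup.closure D ≤
        (Subgroup.centralizer ({QuotientGroup.mk' W v} : Set (G ⧸ W))).comap (QuotientGroup.mk' W) := by
      rw [Subgroup.closure_le]
      intro d hd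
      rw [SetLike.mem_coe, Subgroup.mem_comap, Subgroup.mem_centralizer_singleton_iff, ← map_mul,
        ← map_mul, QuotientGroup.mk'_eq_mk']
      have hmem : v * d * v⁻¹ * d ∈ W := Subgroup.subset_closure (by
        simp only [Set.mem_iUnion]
        exact ⟨d, hd, v * d * v⁻¹, hC.conj v d hd, by simp [MonoidHom.mem_ker.1 hv], rfl⟩)
      refine ⟨(d * v)⁻¹ * (v * d * v⁻¹ * d) * (d * v), ?_, ?_⟩
      · simpa using hWn.conj_mem _ hmem (d * v)⁻¹
      · simp only [mul_inv_rev, mul_assoc]
        simp [← mul_assoc d d, ts_mul_self hC.ts hd, ts_inv hC.ts hd]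
    rw [hC.gen] at hmod
    have h := Subgroup.mem_centralizer_singleton_iff.1 (hmod (Subgroup.mem_top g))
    rw [← QuotientGroup.eq_one_iff, ← QuotientGroup.mk'_apply, map_mul, map_mul, map_mul, map_inv,
      map_inv, ← h]
    group
  -- the multiplier
  have hcap : ∀ z ∈ π.ker, z ∈ commutator G ⊔ W → z ∈ W := by
    intro z hz hzc
    haveI : Small.{0} (G ⧸ W) := Countable.toSmall _
    let e : Shrink.{0} (G ⧸ W) ≃* G ⧸ W := (Shrink.mulEquiv (α := G ⧸ W))
    haveI : Finite (Shrink.{0} (G ⧸ W)) := Finite.of_equiv _ e.symm.toEquiv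
    let σ : Shrink.{0} (G ⧸ W) →* Q := (QuotientGroup.lift W π hWV).comp e.toMonoidHom
    have hσm : ∀ g : G, σ (e.symm (QuotientGroup.mk' W g)) = π g := fun g => by
      simp [σ]
    have hrep : ∀ x, ∃ g : G, x = e.symm (QuotientGroup.mk' W g) := fun x => by
      obtain ⟨g, hg⟩ := QuotientGroup.mk_surjective (e x)
      exact ⟨g, by rw [QuotientGroup.mk'_apply, hg, e.symm_apply_apply]⟩
    have hCE : CfsgLib.MultSU.IsCE σ := by
      refine ⟨fun q => ?_, fun x hx => ?_⟩
      · obtain ⟨g, rfl⟩ := hsurj q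
        exact ⟨_, hσm g⟩
      · obtain ⟨v, rfl⟩ := hrep x
        rw [MonoidHom.mem_ker, hσm] at hx
        refine Subgroup.mem_center_iff.2 fun y => ?_
        obtain ⟨g, rfl⟩ := hrep y
        rw [← map_mul, ← map_mul, ← map_mul, ← map_mul]
        refine congrArg e.symm ((QuotientGroup.mk'_eq_mk' W).2 ⟨(g * v)⁻¹ * (v * g), ?_, by group⟩)
        have := hWn.conj_mem _ (hcen v hx g) (g * v)⁻¹
        simpa [mul_assoc] using this
    have hp : IsPGroup 2 σ.ker := fun x => by
      obtain ⟨v, hv⟩ := hrep x.1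
      have hvk : v ∈ π.ker := by
        have := x.2
        rw [MonoidHom.mem_ker, hv, hσm] at this
        exact this
      obtain ⟨k, hk⟩ := hker ⟨v, hvk⟩
      refine ⟨k, Subtype.ext ?_⟩
      rw [Subgroup.coe_pow, hv, ← map_pow, ← map_pow,
        show v ^ 2 ^ k = 1 by simpa using congrArg Subtype.val hk, map_one, map_one]
      rfl
    have hmemc : e.symm (QuotientGroup.mk' W z) ∈ commutator (Shrink.{0} (G ⧸ W)) := by
      have h1 : QuotientGroup.mk' W z ∈ (commutator G ⊔ W).map (QuotientGroup.mk' W) :=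
        Subgroup.mem_map_of_mem _ hzc
      rw [Subgroup.map_sup, QuotientGroup.map_mk'_self, sup_bot_eq, commutator_def,
        Subgroup.map_commutator] at h1
      have h2 := Subgroup.mem_map_of_mem e.symm.toMonoidHom h1
      rw [Subgroup.map_commutator] at h2
      exact Subgroup.commutator_mono le_top le_top h2
    have h3 := hmult _ σ hCE hp _ hmemc (by rw [hσm]; exact hz)
    rwa [map_eq_one_iff _ e.symm.injective, QuotientGroup.mk'_apply, QuotientGroup.eq_one_iff] at h3
  -- five commuting members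
  obtain ⟨d, hd, t, ht, htc, htp⟩ := hfive
  set L := commutator G ⊔ W with hL
  haveI : L.Normal := inferInstance
  have hLd : ∀ y ∈ D, QuotientGroup.mk' L y = QuotientGroup.mk' L d := by
    intro y hy
    obtain ⟨g, rfl⟩ := hC.trans d hd y hy
    rw [QuotientGroup.mk'_apply, QuotientGroup.mk'_apply, QuotientGroup.eq]
    refine Subgroup.mem_sup_left ?_
    rw [show (g * d * g⁻¹)⁻¹ * d = ⁅g, d⁻¹⁆ by simp [commutatorElement_def, mul_assoc]]
    exact Subgroup.commutator_mem_commutator (Subgroup.mem_top _) (Subgroup.mem_top _)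
  have hdd : QuotientGroup.mk' L d * QuotientGroup.mk' L d = 1 := by
    rw [← map_mul, ts_mul_self hC.ts hd, map_one]
  have hcases : ∀ g : G, QuotientGroup.mk' L g = 1 ∨ QuotientGroup.mk' L g = QuotientGroup.mk' L d := by
    intro g
    have hg : g ∈ Subgroup.closure D := by rw [hC.gen]; exact Subgroup.mem_top g
    induction hg using Subgroup.closure_induction with
    | mem y hy => exact Or.inr (hLd y hy)
    | one => exact Or.inl (map_one _)
    | mul a b _ _ iha ihb =>
        rcases iha with h1 | h1 <;> rcases ihb with h2 | h2 <;> rw [map_mul, h1, h2]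
        · exact Or.inl (one_mul 1)
        · exact Or.inr (one_mul _)
        · exact Or.inr (mul_one _)
        · exact Or.inl hdd
    | inv a _ iha =>
        rw [map_inv]
        rcases iha with h1 | h1 <;> rw [h1]
        · exact Or.inl inv_one
        · exact Or.inr (inv_eq_of_mul_eq_one_right hdd)
  set q := t 0 * t 1 * t 2 * t 3 * t 4 with hq
  have hqL : QuotientGroup.mk' L q = QuotientGroup.mk' L d := by
    rw [hq]
    simp only [map_mul, hLd _ (ht _).1]
    rw [hdd, one_mul, hdd, one_mul]
  have htt : ∀ i j, Commute (t i) (t j) := fun i j =>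
    lift_commute hC hker (ht i).1 (ht j).1 (htc i j)
  have hq2 : q * q = 1 := by
    have hs : ∀ i, t i ^ 2 = 1 := fun i => by rw [pow_two, ts_mul_self hC.ts (ht i).1]
    rw [← pow_two, hq,
      ((((htt 0 4).mul_left (htt 1 4)).mul_left (htt 2 4)).mul_left (htt 3 4)).mul_pow,
      (((htt 0 3).mul_left (htt 1 3)).mul_left (htt 2 3)).mul_pow,
      ((htt 0 2).mul_left (htt 1 2)).mul_pow, (htt 0 1).mul_pow, hs, hs, hs, hs, hs]
    simp
  have hdecomp : ∀ v ∈ π.ker, v ∈ W ∨ ∃ w ∈ W, v = w * q := by
    intro v hv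
    rcases hcases v with h | h
    · rw [QuotientGroup.mk'_apply, QuotientGroup.eq_one_iff] at h
      exact Or.inl (hcap v hv h)
    · refine Or.inr ⟨v * q⁻¹, hcap _ (mul_mem hv (inv_mem htp)) ?_, by group⟩
      rw [← hqL, ← mul_inv_eq_one, ← map_inv, ← map_mul, QuotientGroup.mk'_apply,
        QuotientGroup.eq_one_iff] at h
      exact h
  have hqW : ∀ x ∈ W, Commute q x := by
    intro x hx
    induction hx using Subgroup.closure_induction with
    | mem x hx =>
        simp only [Set.mem_iUnion] at hx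
        obtain ⟨y, hy, hxy⟩ := hx
        obtain ⟨g, rfl⟩ := hC.trans d hd y hy
        obtain ⟨s, hs, hse, rfl⟩ := hxy
        set x₀ := g⁻¹ * s * g * d with hx₀
        have hx₀S : x₀ ∈ twinSet D π d := by
          refine ⟨g⁻¹ * s * g, by simpa using hC.conj g⁻¹ s hs, ?_, rfl⟩
          simp only [map_mul, map_inv, hse]
          group
        have hq0 : Commute q x₀ := by
          have hi : ∀ i, Commute (t i) x₀ := fun i =>
            twinSet_commute hC hker hd (ht i).1 (ht i).2 hx₀S
          exact (((hi 0).mul_left (hi 1)).mul_left (hi 2)).mul_left (hi 3) |>.mul_left (hi 4)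
        have hx0W : x₀ ∈ W := Subgroup.subset_closure (by
          simp only [Set.mem_iUnion]; exact ⟨d, hd, hx₀S⟩)
        have hgq : Commute (g⁻¹ * q * g) x₀ := by
          have hwW : g⁻¹ * q * g * q⁻¹ ∈ W := by
            have := inv_mem (hcen q htp g⁻¹)
            simpa [mul_assoc] using this
          have h1 : Commute (g⁻¹ * q * g * q⁻¹ * q) x₀ :=
            (show Commute (g⁻¹ * q * g * q⁻¹) x₀ from hWcomm _ hwW _ hx0W).mul_left hq0
          rwa [inv_mul_cancel_right] at h1
        have h2 := (commute_conj_iff g).2 hgq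
        simpa [hx₀, mul_assoc] using h2
    | one => exact Commute.one_right _
    | mul a b _ _ iha ihb => exact iha.mul_right ihb
    | inv a _ iha => exact iha.inv_right
  refine ⟨⟨⟨fun a b => Subtype.ext ?_⟩⟩, fun a ha => ?_⟩
  · show (a : G) * b = b * a
    rcases hdecomp a a.2 with h1 | ⟨x, hx, h1⟩ <;> rcases hdecomp b b.2 with h2 | ⟨y, hy, h2⟩
    · exact hWcomm _ h1 _ h2
    · rw [h2]
      exact ((show Commute (a : G) y from hWcomm _ h1 _ hy).mul_right (hqW _ h1).symm).eq
    · rw [h1]
      exact ((show Commute x (b : G) from hWcomm _ hx _ h2).mul_left (hqW _ h2)).eq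
    · rw [h1, h2]
      exact (((show Commute x y from hWcomm _ hx _ hy).mul_right (hqW _ hx).symm).mul_left
        ((hqW _ hy).mul_right (Commute.refl q))).eq
  · rw [pow_two]
    rcases hdecomp a ha with h1 | ⟨x, hx, h1⟩
    · exact hW2 a h1
    · rw [h1, ← pow_two, (hqW x hx).symm.mul_pow, pow_two, pow_two, hW2 x hx, hq2, one_mul]

end CfsgLib.CharsMore.TwoRadical
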