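import Cfsg.Agent.Lib.ThreeTransp.Basic
import Cfsg.Agent.Lib.Classical.UnitarySimple

/-!
Sets of 3-transpositions in SU(n,2) consist of transvections; five commuting transvections with product one.
-/

set_option autoImplicit false
set_option linter.unusedSectionVars false
set_option linter.style.haveILetI false

namespace CfsgLib.CharsMore.TwoRadical

open Cfsg CfsgLib.Classical.Unitary CfsgLib.Involutions CfsgLib.ThreeTransp
open Matrix

variable {F : Type} [Field F] {σ : F →+* F} {n : ℕ}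
variable (hF : Nat.card F = 2 ^ 2) (h : UFrob σ 2)

include hF in
theorem two_eq_zero : (2 : F) = 0 := by
  haveI : Finite F := Nat.finite_of_card_ne_zero (by rw [hF]; norm_num)
  haveI := Fintype.ofFinite F
  have h4 : ((2 : F) ^ 2) = 0 := by
    have := FiniteField.cast_card_eq_zero F
    rwa [← Nat.card_eq_fintype_card, hF, Nat.cast_pow, Nat.cast_ofNat] at this
  exact pow_eq_zero_iff (by norm_num) |>.1 h4

include hF in
theorem addF (x : F) : x + x = 0 := by linear_combination x * two_eq_zero hF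

include hF in
theorem addV (x : Fin n → F) : x + x = 0 := funext fun i => addF hF (x i)

include hF h in
theorem norm_eq_one {x : F} (hx : x ≠ 0) : x * σ x = 1 := by
  haveI : Finite F := Nat.finite_of_card_ne_zero (by rw [hF]; norm_num)
  haveI := Fintype.ofFinite F
  have hc := FiniteField.pow_card_sub_one_eq_one x hx
  rw [← Nat.card_eq_fintype_card, hF] at hc
  rw [h.pow]
  rw [← hc]; ring

include hF h in
theorem fixed_cases' {x : F} (hx : σ x = x) : x = 0 ∨ x = 1 := by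
  rcases eq_or_ne x 0 with h0 | h0
  · exact Or.inl h0
  refine Or.inr ?_
  have h1 := norm_eq_one hF h h0
  rw [h.pow] at hx
  have h2 : x * x = x := by rw [← pow_two, hx]
  exact (mul_right_inj' h0).1 (by rw [h2, mul_one])

include hF h in
theorem exists_trace_one : ∃ θ : F, θ + σ θ = 1 := by
  haveI : Finite F := Nat.finite_of_card_ne_zero (by rw [hF]; norm_num)
  obtain ⟨x, hx⟩ : ∃ x : F, σ x ≠ x := by
    by_contra hc
    push Not at hc
    exact h.ne (RingHom.ext hc)
  refine ⟨x, ?_⟩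
  rcases fixed_cases' hF h (x := x + σ x) (by rw [map_add, h.invol, add_comm]) with h0 | h1
  · exact absurd (by linear_combination h0 - addF hF x : σ x = x) hx
  · exact h1

include hF h in
theorem self_zero_or_one (x : Fin n → F) : uh σ x x = 0 ∨ uh σ x x = 1 :=
  fixed_cases' hF h (h.symm x x)

/-- Transvection at an isotropic vector. -/
def tv (u : Fin n → F) (hu : uh σ u u = 0) : Cfsg.SU n F 2 :=
  utv h u 1 hu (by rw [map_one]; exact addF hF 1)

theorem tv_mulVec {u : Fin n → F} (hu : uh σ u u = 0) (x : Fin n → F) :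
    (tv hF h u hu).1.1 *ᵥ x = x + uh σ x u • u := by
  rw [tv, utv_mulVec, one_mul]

theorem tv_sq {u : Fin n → F} (hu : uh σ u u = 0) : tv hF h u hu * tv hF h u hu = 1 := by
  refine su_ext fun x => ?_
  rw [su_mul_mulVec, tv_mulVec, tv_mulVec, uh_add_left, uh_smul_left, hu, mul_zero, add_zero,
    su_one_mulVec, add_assoc, addV hF, add_zero]

theorem tv_conj (g : Cfsg.SU n F 2) {u w : Fin n → F} (hu : uh σ u u = 0) (hw : uh σ w w = 0)
    (e : g.1.1 *ᵥ u = w) : g * tv hF h u hu * g⁻¹ = tv hF h w hw := by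
  refine su_ext fun x => ?_
  rw [su_mul_mulVec, su_mul_mulVec, tv_mulVec, tv_mulVec, mulVec_add, mulVec_smul, su_mulVec_inv, e]
  congr 2
  rw [← su_uh h g ((g⁻¹).1.1 *ᵥ x) u, su_mulVec_inv, e]

theorem tv_commute_of_fix {g : Cfsg.SU n F 2} {u : Fin n → F} (hu : uh σ u u = 0)
    (e : g.1.1 *ᵥ u = u) : Commute g (tv hF h u hu) :=
  mul_inv_eq_iff_eq_mul.1 (tv_conj hF h g hu hu e)

theorem tv_commute {u v : Fin n → F} (hu : uh σ u u = 0) (hv : uh σ v v = 0)
    (huv : uh σ v u = 0) : Commute (tv hF h u hu) (tv hF h v hv) :=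
  tv_commute_of_fix hF h hv (by rw [tv_mulVec, huv, zero_smul, add_zero])

theorem tv_smul {u : Fin n → F} {c : F} (hc : c ≠ 0) (hu : uh σ u u = 0)
    (hcu : uh σ (c • u) (c • u) = 0) : tv hF h (c • u) hcu = tv hF h u hu := by
  refine su_ext fun x => ?_
  rw [tv_mulVec, tv_mulVec, uh_smul_right, smul_smul]
  congr 2
  linear_combination (uh σ x u) * norm_eq_one hF h hc

theorem tv_congr {u v : Fin n → F} (e : u = v) (hu : uh σ u u = 0) (hv : uh σ v v = 0) :
    tv hF h u hu = tv hF h v hv := by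
  subst e; rfl

include hF h in
theorem isConj_tv_nonorth {u v : Fin n → F} (hu : uh σ u u = 0) (hv : uh σ v v = 0)
    (huv : uh σ u v ≠ 0) : IsConj (tv hF h u hu) (tv hF h v hv) := by
  set c := uh σ u v with hc
  have hcv : uh σ (c • v) (c • v) = 0 := by rw [uh_smul_left, uh_smul_right, hv, mul_zero, mul_zero]
  refine isConj_iff.2 ⟨tv hF h u hu * tv hF h v hv, ?_⟩
  rw [tv_conj hF h _ hu hcv, tv_smul hF h huv hv]
  rw [su_mul_mulVec, tv_mulVec, tv_mulVec, uh_add_left, hu, zero_add, uh_smul_left, ← h.symm u v,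
    ← hc, norm_eq_one hF h huv, one_smul, add_comm u (c • v), add_assoc, addV hF, add_zero]

include hF h in
/-- A vector with a given pairing can be made isotropic. -/
theorem exists_iso_shift {x u : Fin n → F} (hu : uh σ u u = 0) (hxu : uh σ x u ≠ 0) :
    ∃ c : F, uh σ (x + c • u) (x + c • u) = 0 := by
  obtain ⟨θ, hθ⟩ := exists_trace_one hF h
  have key : ∀ c : F, uh σ (x + c • u) (x + c • u) =
      uh σ x x + (c * σ (uh σ x u) + σ (c * σ (uh σ x u))) := fun c => by
    simp only [uh_add_left, uh_add_right, uh_smul_left, uh_smul_right, hu, map_mul, h.invol,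
      ← h.symm x u, mul_zero, add_zero]
    ring
  rcases self_zero_or_one hF h x with h0 | h1
  · exact ⟨0, by rw [zero_smul, add_zero, h0]⟩
  · refine ⟨θ * (σ (uh σ x u))⁻¹, ?_⟩
    rw [key, mul_assoc, inv_mul_cancel₀ ((map_ne_zero σ).2 hxu), mul_one, h1, hθ, addF hF]

include hF h in
theorem exists_pairing_ne {u : Fin n → F} (hu : u ≠ 0) : ∃ x, uh σ x u ≠ 0 := by
  haveI : Finite F := Nat.finite_of_card_ne_zero (by rw [hF]; norm_num)
  obtain ⟨x, hx⟩ := exists_uh_eq_one h hu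
  exact ⟨x, by rw [hx]; exact one_ne_zero⟩

include hF h in
/-- All transvections are conjugate. -/
theorem isConj_tv {u v : Fin n → F} (hu : uh σ u u = 0) (hv : uh σ v v = 0) (hu0 : u ≠ 0)
    (hv0 : v ≠ 0) : IsConj (tv hF h u hu) (tv hF h v hv) := by
  rcases ne_or_eq (uh σ u v) 0 with huv | huv
  · exact isConj_tv_nonorth hF h hu hv huv
  obtain ⟨a, ha⟩ := exists_pairing_ne hF h hu0
  obtain ⟨b, hb⟩ := exists_pairing_ne hF h hv0
  obtain ⟨y, hyu, hyv⟩ : ∃ y, uh σ y u ≠ 0 ∧ uh σ y v ≠ 0 := by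
    by_cases h1 : uh σ a v = 0
    · by_cases h2 : uh σ b u = 0
      · exact ⟨a + b, by rw [uh_add_left, h2, add_zero]; exact ha,
          by rw [uh_add_left, h1, zero_add]; exact hb⟩
      · exact ⟨b, h2, hb⟩
    · exact ⟨a, ha, h1⟩
  obtain ⟨c, hc⟩ := exists_iso_shift hF h hu hyu
  have e1 : uh σ (y + c • u) u ≠ 0 := by
    rw [uh_add_left, uh_smul_left, hu, mul_zero, add_zero]; exact hyu
  have e2 : uh σ (y + c • u) v ≠ 0 := by
    rw [uh_add_left, uh_smul_left, huv, mul_zero, add_zero]; exact hyv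
  exact (isConj_tv_nonorth hF h hc hu e1).symm.trans (isConj_tv_nonorth hF h hc hv e2)

include hF h in
/-- Peeling one transvection off an involution. -/
theorem peel {g : Cfsg.SU n F 2} (hg : g * g = 1) (hg1 : g ≠ 1) :
    ∃ (x u : Fin n → F) (hu : uh σ u u = 0), uh σ x u = 1 ∧ uh σ x x = 0 ∧
      (g * tv hF h u hu) * (g * tv hF h u hu) = 1 ∧
      (g * tv hF h u hu).1.1 *ᵥ x = x ∧ (g * tv hF h u hu).1.1 *ᵥ u = u ∧
      ∀ y, g.1.1 *ᵥ y = y → (g * tv hF h u hu).1.1 *ᵥ y = y ∧ uh σ y u = 0 := by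
  haveI : Finite F := Nat.finite_of_card_ne_zero (by rw [hF]; norm_num)
  have hgg : ∀ x, g.1.1 *ᵥ (g.1.1 *ᵥ x) = x := fun x => by
    rw [← su_mul_mulVec, hg, su_one_mulVec]
  have hsym : ∀ x y, σ (uh σ x (g.1.1 *ᵥ y + y)) = uh σ y (g.1.1 *ᵥ x + x) := fun x y => by
    rw [h.symm, uh_add_left, uh_add_right]
    congr 1
    rw [← su_uh h g (g.1.1 *ᵥ y) x, hgg]
  have horth : ∀ x, ∀ y, g.1.1 *ᵥ y = y → uh σ y (g.1.1 *ᵥ x + x) = 0 := fun x y hy => by
    rw [uh_add_right]
    conv_lhs => arg 1; rw [← hy, su_uh h]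
    exact addF hF _
  obtain ⟨x₀, hx₀⟩ : ∃ x, uh σ x (g.1.1 *ᵥ x + x) = 1 := by
    by_contra hc
    push Not at hc
    have hdiag : ∀ x, uh σ x (g.1.1 *ᵥ x + x) = 0 := fun x =>
      (fixed_cases' hF h (hsym x x)).resolve_right (hc x)
    refine hg1 (su_ext fun y => ?_)
    have hz : g.1.1 *ᵥ y + y = 0 := uh_ext h fun x => by
      rw [uh_zero_right]
      by_contra h0
      obtain ⟨θ, hθ⟩ := exists_trace_one hF h
      obtain ⟨k, hk⟩ : ∃ k : F, k * uh σ x (g.1.1 *ᵥ y + y) = θ :=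
        ⟨θ * (uh σ x (g.1.1 *ᵥ y + y))⁻¹, by rw [mul_assoc, inv_mul_cancel₀ h0, mul_one]⟩
      have h1 := hdiag (k • x + y)
      have hd := hdiag x
      have he := hdiag y
      have hs := hsym x y
      simp only [mulVec_add, mulVec_smul] at h1
      rw [show k • (g.1.1 *ᵥ x) + g.1.1 *ᵥ y + (k • x + y) =
        k • (g.1.1 *ᵥ x + x) + (g.1.1 *ᵥ y + y) by rw [smul_add]; abel] at h1
      simp only [uh_add_left, uh_smul_left, uh_add_right, uh_smul_right] at h1 hd he hs
      have hfin : θ + σ θ = 0 := by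
        rw [← hk, map_mul]
        simp only [uh_add_right] at *
        rw [hs]
        linear_combination h1 - k * σ k * hd - he
      rw [hθ] at hfin
      exact one_ne_zero hfin
    rw [su_one_mulVec]
    calc g.1.1 *ᵥ y = g.1.1 *ᵥ y + (y + y) := by rw [addV hF, add_zero]
      _ = y := by rw [← add_assoc, hz, zero_add]
  set u := g.1.1 *ᵥ x₀ + x₀ with hudef
  have hgu : g.1.1 *ᵥ u = u := by rw [hudef, mulVec_add, hgg, add_comm]
  have hu : uh σ u u = 0 := horth x₀ u hgu
  obtain ⟨c, hc⟩ := exists_iso_shift hF h hu (x := x₀) (by rw [hx₀]; exact one_ne_zero)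
  set x := x₀ + c • u with hxdef
  have hx : uh σ x u = 1 := by rw [uh_add_left, uh_smul_left, hu, mul_zero, add_zero, hx₀]
  have hgx : g.1.1 *ᵥ x + x = u := by
    rw [hxdef, mulVec_add, mulVec_smul, hgu,
      show g.1.1 *ᵥ x₀ + c • u + (x₀ + c • u) = g.1.1 *ᵥ x₀ + x₀ + (c • u + c • u) by abel,
      addV hF, add_zero]
  have hcomm : Commute g (tv hF h u hu) := tv_commute_of_fix hF h hu hgu
  refine ⟨x, u, hu, hx, hc, ?_, ?_, ?_, fun y hy => ⟨?_, horth x₀ y hy⟩⟩
  · rw [← pow_two, hcomm.mul_pow, pow_two, pow_two, hg, tv_sq, one_mul]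
  · rw [su_mul_mulVec, tv_mulVec, hx, one_smul, mulVec_add, hgu, ← hgx, ← add_assoc, addV hF,
      zero_add]
  · rw [su_mul_mulVec, tv_mulVec, hu, zero_smul, add_zero, hgu]
  · rw [su_mul_mulVec, tv_mulVec, horth x₀ y hy, zero_smul, add_zero, hy]

include hF h in
/-- An involution whose conjugates give products of order at most three is a transvection. -/
theorem eq_tv_of_three {g : Cfsg.SU n F 2} (hg : g * g = 1) (hg1 : g ≠ 1)
    (hts : ∀ k : Cfsg.SU n F 2,
      (g * (k * g * k⁻¹)) ^ 2 = 1 ∨ (g * (k * g * k⁻¹)) ^ 3 = 1) :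
    ∃ (u : Fin n → F) (hu : uh σ u u = 0), u ≠ 0 ∧ g = tv hF h u hu := by
  obtain ⟨C, A, hA, hCA, hC, g₁sq, f₁C, f₁A, -⟩ := peel hF h hg hg1
  set g₁ := g * tv hF h A hA with hg₁
  have hA0 : A ≠ 0 := fun e => by rw [e, uh_zero_right] at hCA; exact zero_ne_one hCA
  have hgA : g = g₁ * tv hF h A hA := by rw [hg₁, mul_assoc, tv_sq, mul_one]
  by_cases h₁ : g₁ = 1
  · exact ⟨A, hA, hA0, by rw [hgA, h₁, one_mul]⟩
  exfalso
  obtain ⟨E₀, B, hB, hEB, -, -, f₂E, f₂B, f₂⟩ := peel hF h g₁sq h₁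
  obtain ⟨f₂C, hCB⟩ := f₂ C f₁C
  obtain ⟨f₂A, hAB⟩ := f₂ A f₁A
  set g₂ := g₁ * tv hF h B hB with hg₂
  have hAC : uh σ A C = 1 := by rw [← h.symm C A, hCA, map_one]
  have hBC : uh σ B C = 0 := h.swap_zero hCB
  have hBA : uh σ B A = 0 := h.swap_zero hAB
  set E₁ := E₀ + uh σ E₀ C • A + uh σ E₀ A • C with hE₁
  have eEA : uh σ E₁ A = 0 := by
    rw [hE₁, uh_add_left, uh_add_left, uh_smul_left, uh_smul_left, hA, hCA, mul_zero, add_zero,
      mul_one]
    exact addF hF _
  have eEC : uh σ E₁ C = 0 := by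
    rw [hE₁, uh_add_left, uh_add_left, uh_smul_left, uh_smul_left, hAC, hC, mul_zero, add_zero,
      mul_one]
    exact addF hF _
  have eEB : uh σ E₁ B = 1 := by
    rw [hE₁, uh_add_left, uh_add_left, uh_smul_left, uh_smul_left, hEB, hAB, hCB]; simp
  obtain ⟨c, hc⟩ := exists_iso_shift hF h hB (x := E₁) (by rw [eEB]; exact one_ne_zero)
  set E := E₁ + c • B with hE
  have hEA : uh σ E A = 0 := by rw [hE, uh_add_left, uh_smul_left, eEA, hBA, mul_zero, add_zero]
  have hEC : uh σ E C = 0 := by rw [hE, uh_add_left, uh_smul_left, eEC, hBC, mul_zero, add_zero]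
  have hEB' : uh σ E B = 1 := by rw [hE, uh_add_left, uh_smul_left, eEB, hB, mul_zero, add_zero]
  have hBE : uh σ B E = 1 := by rw [← h.symm E B, hEB', map_one]
  have hCE : uh σ C E = 0 := h.swap_zero hEC
  have hAE : uh σ A E = 0 := h.swap_zero hEA
  have f₂E' : g₂.1.1 *ᵥ E = E := by
    simp only [hE, hE₁, mulVec_add, mulVec_smul, f₂E, f₂A, f₂B, f₂C]
  clear_value E
  set W := C + E with hW
  have hWW : uh σ W W = 0 := by
    rw [hW, uh_add_left, uh_add_right, uh_add_right, hC, hCE, hEC, hc]; simp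
  set tA := tv hF h A hA
  set tB := tv hF h B hB
  set tC := tv hF h C hC
  set tW := tv hF h W hWW
  have cA : Commute g₂ tA := tv_commute_of_fix hF h hA f₂A
  have cB : Commute g₂ tB := tv_commute_of_fix hF h hB f₂B
  have cC : Commute g₂ tC := tv_commute_of_fix hF h hC f₂C
  have cW : Commute g₂ tW := tv_commute_of_fix hF h hWW (by rw [hW, mulVec_add, f₂C, f₂E'])
  set k := tB * tW * tA * tC with hk
  have kA : k.1.1 *ᵥ A = C := by
    simp only [hk, su_mul_mulVec, tA, tB, tC, tW, tv_mulVec, hW, uh_add_left, uh_add_right,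
      uh_smul_left, hA, hAC, hCA, hC, hCB, hCE, hBC, hAE, hAB, addF hF, zero_mul, zero_smul, add_zero, one_smul, mul_one, zero_add]
    rw [show A + C + A = C + (A + A) by abel, addV hF, add_zero]
  have kB : k.1.1 *ᵥ B = W := by
    simp only [hk, su_mul_mulVec, tA, tB, tC, tW, tv_mulVec, hW, uh_add_left, uh_add_right,
      uh_smul_left, hB, hBA, hBC, hBE, hCB, hEB', zero_smul, add_zero, one_smul, zero_add]
    rw [show B + (C + E) + B = C + E + (B + B) by abel, addV hF, add_zero]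
  have hgdec : g = g₂ * (tA * tB) := by
    have cAB : Commute tA tB := tv_commute hF h hA hB hBA
    rw [cAB.eq, hg₂, hgA]
    simp only [tA, tB, mul_assoc]
    rw [← mul_assoc (tv hF h B hB) (tv hF h B hB), tv_sq, one_mul]
  have hg2sq : g₂ * g₂ = 1 := by
    rw [← pow_two, hg₂, ((tv_commute_of_fix hF h hB ?_).mul_pow), pow_two, pow_two, g₁sq, tv_sq,
      one_mul]
    calc g₁.1.1 *ᵥ B = (g₂ * tv hF h B hB).1.1 *ᵥ B := by rw [hg₂, mul_assoc, tv_sq, mul_one]
      _ = B := by rw [su_mul_mulVec, tv_mulVec, hB, zero_smul, add_zero, f₂B]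
  have hconj : k * g * k⁻¹ = g₂ * (tC * tW) := by
    have hck : Commute k g₂ := ((((cB.mul_right cW).mul_right cA).mul_right cC)).symm
    rw [hgdec, show k * (g₂ * (tA * tB)) * k⁻¹ = (k * g₂ * k⁻¹) * ((k * tA * k⁻¹) * (k * tB * k⁻¹)) by
      group, hck.eq, mul_inv_cancel_right, tv_conj hF h k hA hC kA, tv_conj hF h k hB hWW kB]
  set P := tA * tB * (tC * tW) with hP
  have hprod : g * (k * g * k⁻¹) = P := by
    rw [hconj, hgdec, (cA.mul_right cB).eq, mul_assoc, ← mul_assoc g₂ g₂, hg2sq, one_mul]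
  have pC : P.1.1 *ᵥ C = A + C := by
    simp only [hP, su_mul_mulVec, tA, tB, tC, tW, tv_mulVec, hW, uh_add_right, hC, hCE, hCB, hCA,
      zero_smul, add_zero, one_smul]
    abel
  have pA : P.1.1 *ᵥ A = A + B + E := by
    simp only [hP, su_mul_mulVec, tA, tB, tC, tW, tv_mulVec, hW, uh_add_left, uh_add_right, hAC,
      hAE, hC, hEC, hCB, hAB, hEB', hA, hCA, hEA, hBA, one_smul, zero_smul, add_zero, zero_add,
      uh_smul_left, mul_one]
    abel_nf
    simp [addV hF, two_mul, two_nsmul, two_zsmul, two_eq_zero hF, add_comm, add_left_comm]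
    
  have pB : P.1.1 *ᵥ B = A + C + E := by
    simp only [hP, su_mul_mulVec, tA, tB, tC, tW, tv_mulVec, hW, uh_add_left, uh_add_right, hBC,
      hBE, hC, hEC, hCB, hB, hEB', hBA, hCA, hEA, one_smul, zero_smul, add_zero, zero_add,
      uh_smul_left]
    abel_nf
    simp [addV hF, two_mul, two_nsmul, two_zsmul, two_eq_zero hF, add_comm, add_left_comm]
    
  have pE : P.1.1 *ᵥ E = B + E := by
    simp only [hP, su_mul_mulVec, tA, tB, tC, tW, tv_mulVec, hW, uh_add_right, hEC, hc, hEB', hEA,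
      zero_smul, add_zero, one_smul]
    simp only [uh_add_left, hEA, hBA, add_zero, zero_smul]
    abel
  have p2 : (P ^ 2).1.1 *ᵥ C = B + C + E := by
    rw [pow_two, su_mul_mulVec, pC, mulVec_add, pA, pC,
      show A + B + E + (A + C) = B + C + E + (A + A) by abel, addV hF, add_zero]
  rcases hts k with h2 | h3
  · rw [hprod] at h2
    rw [h2, su_one_mulVec] at p2
    have h0 := congrArg (fun v => uh σ v B) p2
    simp only [uh_add_left, hB, hCB, hEB', zero_add] at h0
    exact zero_ne_one h0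
  · rw [hprod, pow_succ', ] at h3
    have p3 : (P * P ^ 2).1.1 *ᵥ C = B := by
      rw [su_mul_mulVec, p2, mulVec_add, mulVec_add, pB, pC, pE,
        show A + C + E + (A + C) + (B + E) = B + (A + A) + (C + C) + (E + E) by abel, addV hF,
        addV hF, addV hF]
      simp
    rw [h3, su_one_mulVec] at p3
    have h0 := congrArg (fun v => uh σ v A) p3
    rw [hCA, hBA] at h0
    exact one_ne_zero h0

include h in
theorem exists_kernel {k : ℕ} (hk : k < n) (a : Fin k → Fin n → F) :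
    ∃ z : Fin n → F, z ≠ 0 ∧ ∀ i, uh σ z (a i) = 0 := by
  let L : (Fin n → F) →ₗ[F] (Fin k → F) :=
    { toFun := fun x i => uh σ x (a i)
      map_add' := fun x y => funext fun i => uh_add_left x y (a i)
      map_smul' := fun c x => funext fun i => uh_smul_left c x (a i) }
  have hker : LinearMap.ker L ≠ ⊥ := LinearMap.ker_ne_bot_of_finrank_lt (by simpa using hk)
  obtain ⟨z, hz, hz0⟩ := Submodule.exists_mem_ne_zero_of_ne_bot hker
  exact ⟨z, hz0, fun i => congrFun (LinearMap.mem_ker.1 hz) i⟩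

include hF h in
/-- Five pairwise commuting transvections at the points of a singular line have product one. -/
theorem exists_five (hn : 4 ≤ n) {u : Fin n → F} (hu : uh σ u u = 0) (hu0 : u ≠ 0) :
    ∃ t : Fin 5 → Cfsg.SU n F 2,
      (∀ i, ∃ (v : Fin n → F) (hv : uh σ v v = 0), v ≠ 0 ∧ t i = tv hF h v hv) ∧
      t 0 = tv hF h u hu ∧ (∀ i j, Commute (t i) (t j)) ∧ t 0 * t 1 * t 2 * t 3 * t 4 = 1 := by
  haveI : Finite F := Nat.finite_of_card_ne_zero (by rw [hF]; norm_num)
  obtain ⟨x, hx⟩ := exists_uh_eq_one h hu0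
  obtain ⟨z₁, hz₁, hzk⟩ := exists_kernel h (k := 2) (by omega) ![u, x]
  obtain ⟨z₂, hz₂, hzk'⟩ := exists_kernel h (k := 3) (by omega) ![u, x, z₁]
  have a₁ : uh σ z₁ u = 0 := hzk 0
  have b₁ : uh σ z₁ x = 0 := hzk 1
  have a₂ : uh σ z₂ u = 0 := hzk' 0
  have b₂ : uh σ z₂ x = 0 := hzk' 1
  have c₂ : uh σ z₂ z₁ = 0 := hzk' 2
  obtain ⟨w, hw0, hw, hwu, hwx⟩ :
      ∃ w, w ≠ 0 ∧ uh σ w w = 0 ∧ uh σ w u = 0 ∧ uh σ w x = 0 := by
    rcases self_zero_or_one hF h z₁ with h1 | h1
    · exact ⟨z₁, hz₁, h1, a₁, b₁⟩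
    rcases self_zero_or_one hF h z₂ with h2 | h2
    · exact ⟨z₂, hz₂, h2, a₂, b₂⟩
    refine ⟨z₁ + z₂, fun e => ?_, ?_, by rw [uh_add_left, a₁, a₂, add_zero],
      by rw [uh_add_left, b₁, b₂, add_zero]⟩
    · have h0 := congrArg (fun v => uh σ v z₁) e
      simp only [uh_add_left, h1, c₂, add_zero, uh_zero_left] at h0
      exact one_ne_zero h0
    · rw [uh_add_left, uh_add_right, uh_add_right, h1, h2, c₂, h.swap_zero c₂, add_zero, zero_add]
      exact addF hF 1
  have huw : uh σ u w = 0 := h.swap_zero hwu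
  have hux : uh σ u x = 1 := by rw [← h.symm x u, hx, map_one]
  obtain ⟨θ, hθ⟩ := exists_trace_one hF h
  let v : Fin 5 → Fin n → F :=
    ![u, w, u + (1 : F) • w, u + θ • w, u + (θ + 1) • w]
  have hv : ∀ i j, uh σ (v i) (v j) = 0 := by
    intro i j
    fin_cases i <;> fin_cases j <;>
      simp [v, uh_add_left, uh_add_right, uh_smul_left, uh_smul_right, hu, hw, hwu, huw]
  have hv0 : ∀ i, v i ≠ 0 := by
    intro i e
    have h0 := congrArg (fun y => uh σ y x) e
    fin_cases i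
    all_goals simp [v, uh_add_left, uh_smul_left, hux, hwx, uh_zero_left] at h0 e ⊢
    exact hw0 e
  refine ⟨fun i => tv hF h (v i) (hv i i), fun i => ⟨v i, hv i i, hv0 i, rfl⟩, rfl,
    fun i j => tv_commute hF h (hv i i) (hv j j) (hv j i), su_ext fun y => ?_⟩
  have hσ : σ (θ + 1) = σ θ + 1 := by rw [map_add, map_one]
  have hθ0 : θ ≠ 0 := fun e => by rw [e, map_zero, add_zero] at hθ; exact zero_ne_one hθ
  have hN := norm_eq_one hF h hθ0
  simp only [su_mul_mulVec, tv_mulVec, uh_add_left, uh_smul_left, su_one_mulVec, hv, mul_zero,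
    add_zero]
  simp only [v, Matrix.cons_val, uh_add_right, uh_smul_right, map_one, hσ]
  have h2 : (2 : F) = 0 := two_eq_zero hF
  match_scalars
  · ring
  · linear_combination (uh σ y u * 2 + uh σ y w * σ θ + uh σ y w) * h2
  · linear_combination (uh σ y u * (1 + θ) + uh σ y w * 3) * h2 + uh σ y w * hθ + 2 * uh σ y w * hN

end CfsgLib.CharsMore.TwoRadical
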