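import Cfsg.Agent.Lib.CharsMore.TwoRadical.Core
import Cfsg.Agent.Lib.CharsMore.TwoRadical.SUClass
import Cfsg.Agent.Lib.Base.Cores
import Cfsg.Agent.Lib.Classical.UnitarySU

/-!
A group generated by a class of 3-transpositions with trivial centre and quotient SU(n,2) by its
2-radical has elementary abelian 2-radical, when SU(n,2) is simple without 2-multiplier.
-/

set_option autoImplicit false
set_option linter.unusedSectionVars false
set_option linter.style.haveILetI false

namespace CfsgLib.CharsMore.TwoRadical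

open Cfsg CfsgLib.Classical.Unitary CfsgLib.Involutions CfsgLib.ThreeTransp

universe u

theorem isSimple_SU {F : Type} [Field F] {n : ℕ} (hF : Nat.card F = 2 ^ 2) (hn : 4 ≤ n)
    (hco : Nat.gcd n 3 = 1) : IsSimpleGroup (Cfsg.SU n F 2) := by
  haveI : Finite F := Nat.finite_of_card_ne_zero (by rw [hF]; norm_num)
  haveI := isSimpleGroup_PSU (n := n) hF (by omega) (fun e => by omega)
  have hc : Subgroup.center (Cfsg.SU n F 2) = ⊥ :=
    Subgroup.eq_bot_of_card_eq _ (by rw [CfsgLib.Classical.card_center_SU hF (by omega)]; exact hco)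
  let e : Cfsg.PSU n F 2 ≃* Cfsg.SU n F 2 :=
    (QuotientGroup.quotientMulEquivOfEq hc).trans QuotientGroup.quotientBot
  haveI : Nontrivial (Cfsg.SU n F 2) := e.symm.toEquiv.nontrivial
  exact IsSimpleGroup.isSimpleGroup_of_surjective e.toMonoidHom e.surjective

variable {G : Type u} [Group G] [Finite G] {D : Set G}

theorem ker_comp_mk {V : Subgroup G} [V.Normal] {Q : Type} [Group Q] (e : G ⧸ V ≃* Q) :
    (e.toMonoidHom.comp (QuotientGroup.mk' V)).ker = V := by
  ext x
  rw [MonoidHom.mem_ker]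
  show e (QuotientGroup.mk' _ x) = 1 ↔ _
  rw [← map_one e, e.injective.eq_iff]
  exact QuotientGroup.eq_one_iff _

theorem elementary_of_SU (hD : IsThreeTranspositionClass D) (hZ : Subgroup.center G = ⊥)
    {F : Type} [Field F] {σ : F →+* F} {n : ℕ} (hF : Nat.card F = 2 ^ 2) (h : UFrob σ 2)
    (hn : 4 ≤ n) (hco : Nat.gcd n 3 = 1) (hmult : CfsgLib.MultSU.NoMult 2 (Cfsg.SU n F 2))
    (π : G →* Cfsg.SU n F 2) (hsurj : Function.Surjective π) (hker : IsPGroup 2 π.ker) :
    IsElementaryAbelian 2 π.ker := by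
  haveI : Finite F := Nat.finite_of_card_ne_zero (by rw [hF]; norm_num)
  haveI : Finite (Cfsg.SU n F 2) := Finite.of_surjective π hsurj
  have hsimple := isSimple_SU hF hn hco
  obtain ⟨x₀, hx₀, hx01⟩ : ∃ u : Fin n → F, uh σ u u = 0 ∧ u ≠ 0 := by
    obtain ⟨u, hu0, huu, -⟩ := exists_std_iso hF h (n := n) (by omega)
    exact ⟨u, huu, hu0⟩
  obtain ⟨t, htv, -, htc, -⟩ := exists_five hF h hn hx₀ hx01
  have hna : ∃ x y : Cfsg.SU n F 2, x * y ≠ y * x := by
    by_contra hall
    push Not at hall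
    obtain ⟨y, hy⟩ := exists_uh_eq_one h hx01
    obtain ⟨c, hc⟩ := exists_iso_shift hF h hx₀ (x := y) (by rw [hy]; exact one_ne_zero)
    set w := y + c • x₀ with hw
    have hwx : uh σ w x₀ = 1 := by rw [hw, uh_add_left, uh_smul_left, hx₀, mul_zero, add_zero, hy]
    have h1 := congrArg (fun g : Cfsg.SU n F 2 => g.1.1.mulVec x₀) (hall (tv hF h x₀ hx₀) (tv hF h w hc))
    have hxw : uh σ x₀ w = 1 := by rw [← h.symm w x₀, hwx, map_one]
    simp only [su_mul_mulVec, tv_mulVec, uh_add_left, hx₀, hxw, hwx, one_smul, zero_smul, add_zero,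
      zero_add] at h1
    have h2 := congrArg (fun v => uh σ v w) h1
    simp only [uh_add_left, hxw, hc] at h2
    simp [addF hF] at h2
  have h2 : ∃ a ∈ D, ∃ b ∈ D, a ≠ b := by
    by_contra hall
    push Not at hall
    obtain ⟨d, hd, -⟩ := hD.2.1
    have hle : (⊤ : Subgroup G) ≤ Subgroup.zpowers d := by
      rw [← hD.2.2, Subgroup.closure_le]
      exact fun y hy => (hall y hy d hd) ▸ Subgroup.mem_zpowers _
    obtain ⟨x, y, hxy⟩ := hna
    obtain ⟨x, rfl⟩ := hsurj x
    obtain ⟨y, rfl⟩ := hsurj y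
    obtain ⟨i, rfl⟩ := Subgroup.mem_zpowers_iff.1 (hle (Subgroup.mem_top x))
    obtain ⟨j, rfl⟩ := Subgroup.mem_zpowers_iff.1 (hle (Subgroup.mem_top y))
    exact hxy (((Commute.zpow_zpow_self d i j)).map π).eq
  have hC := tclass_of_class hD h2
  refine kernel_elementary hC hker hsurj hsimple hna hZ hmult ?_
  obtain ⟨d, hd, -⟩ := hC.two
  obtain ⟨u, hu, hu0, hgu⟩ := eq_tv_of_three hF h
    (g := π d) (by rw [← map_mul, ts_mul_self hC.ts hd, map_one])
    (image_ne_one hC hker hsurj hsimple hna hd) (fun k => by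
      obtain ⟨g, rfl⟩ := hsurj k
      rw [← map_inv, ← map_mul, ← map_mul, ← map_mul, ← map_pow, ← map_pow]
      exact (hC.ts.2 d hd _ (hC.conj g d hd)).imp (fun e => by rw [e, map_one])
        fun e => by rw [e, map_one])
  obtain ⟨t, htv, ht0, htc, htp⟩ := exists_five hF h hn hu hu0
  have hlift : ∀ i, ∃ y ∈ D, π y = t i := by
    intro i
    obtain ⟨v, hv, hv0, hti⟩ := htv i
    obtain ⟨k, hk⟩ := isConj_iff.1 (isConj_tv hF h hu hv hu0 hv0)
    obtain ⟨g, rfl⟩ := hsurj k
    exact ⟨g * d * g⁻¹, hC.conj g d hd, by rw [hti, ← hk, ← hgu]; simp⟩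
  choose s hs hst using hlift
  refine ⟨d, hd, s, fun i => ⟨hs i, ?_⟩, fun i j => ?_, ?_⟩
  · rw [hst, hgu, ← ht0]; exact htc 0 i
  · rw [hst, hst]; exact htc i j
  · simp only [map_mul, hst]; exact htp

end CfsgLib.CharsMore.TwoRadical
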